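import Groth.Agent.BlowUpLib.Glue
import Groth.Agent.MeroX.BlowSpec
import Mathlib.AlgebraicGeometry.Morphisms.Finite
import Mathlib.AlgebraicGeometry.Properties
import Mathlib.AlgebraicGeometry.Noetherian

/-!
A finite birational morphism which is an isomorphism off an effective Cartier divisor is a blow-up.
-/

set_option autoImplicit false
set_option backward.isDefEq.respectTransparency false
set_option backward.isDefEq.respectTransparency.types false

universe u

open CategoryTheory CategoryTheory.Limits AlgebraicGeometry TopologicalSpace Opposite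

namespace Groth.Agent.BlowFin16

variable {X Y : Scheme.{u}} (f : X ⟶ Y) [IsFinite f]

theorem bijective_app_of_le {X Y : Scheme.{u}} (f : X ⟶ Y) (V : Y.Opens) (hiso : IsIso (f ∣_ V)) {W : Y.Opens}
    (hW : W ≤ V) : Function.Bijective (f.app W) := by
  refine (ConcreteCategory.isIso_iff_bijective _).1 ?_
  haveI := hiso
  have e := morphismRestrict_app f V (V.ι ⁻¹ᵁ W)
  have h2 : IsIso ((f ∣_ V).app (V.ι ⁻¹ᵁ W)) := inferInstance
  rw [e] at h2
  haveI := h2
  have h3 : IsIso (f.app (V.ι ''ᵁ V.ι ⁻¹ᵁ W)) :=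
    IsIso.of_isIso_comp_right _ (X.presheaf.map (eqToHom (image_morphismRestrict_preimage f _ _)).op)
  rw [V.ι.image_preimage_eq_opensRange_inf, Scheme.Opens.opensRange_ι, inf_eq_right.2 hW] at h3
  exact h3

/-- Facts over one chart. -/
theorem chart_facts [IsReduced X] (L : Y.IdealSheafData) (hiso : IsIso (f ∣_ L.support.compl))
    (hdense : Dense (f.base ⁻¹' ((L.support : Set Y)ᶜ))) (U : Y.affineOpens) (l : Γ(Y, U.1))
    (hl : l ∈ nonZeroDivisors Γ(Y, U.1)) (hL : L.ideal U = Ideal.span {l}) :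
    Function.Injective (f.app U.1) ∧ f.app U.1 l ∈ nonZeroDivisors Γ(X, f ⁻¹ᵁ U.1) ∧
      ∃ n : ℕ, ∀ b, f.app U.1 l ^ n * b ∈ Set.range (f.app U.1) := by
  have hmem : ∀ x ∈ U.1, (x ∈ L.support ↔ x ∉ Y.basicOpen l) := fun x hx => by
    rw [L.mem_support_iff_of_mem (U := U) hx, hL, Scheme.zeroLocus_span, Scheme.mem_zeroLocus_iff]
    simp
  have hV : Y.basicOpen l ≤ L.support.compl := fun x hx hxs => (hmem x (Y.basicOpen_le l hx)).1 hxs hx
  haveI := hiso
  have hbij : Function.Bijective (f.app (Y.basicOpen l)) :=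
    bijective_app_of_le f L.support.compl hiso hV
  haveI := U.2.isLocalization_basicOpen l
  have hres : ∀ a : Γ(Y, U.1), f.app (Y.basicOpen l) (algebraMap Γ(Y, U.1) Γ(Y, Y.basicOpen l) a) =
      X.presheaf.map (homOfLE (f.preimage_mono (Y.basicOpen_le l))).op (f.app U.1 a) := fun a =>
    congrArg (fun φ => (ConcreteCategory.hom φ) a) (f.naturality (homOfLE (Y.basicOpen_le l)).op)
  have hinj : Function.Injective (f.app U.1) := by
    refine (injective_iff_map_eq_zero (f.app U.1).hom).2 fun a ha => ?_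
    have h0 : algebraMap Γ(Y, U.1) Γ(Y, Y.basicOpen l) a = 0 := hbij.1 (by
      rw [hres, map_zero]; exact (congrArg _ ha).trans (map_zero _))
    obtain ⟨⟨_, m, rfl⟩, hm⟩ := (IsLocalization.map_eq_zero_iff (Submonoid.powers l) Γ(Y, Y.basicOpen l) a).1 h0
    exact mem_nonZeroDivisors_iff.1 (pow_mem hl m) |>.1 a hm
  have hnzd : f.app U.1 l ∈ nonZeroDivisors Γ(X, f ⁻¹ᵁ U.1) := by
    refine mem_nonZeroDivisors_iff_right.2 fun b hb => (basicOpen_eq_bot_iff b).1 ?_
    by_contra hne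
    obtain ⟨x, hx⟩ := (Opens.ne_bot_iff_nonempty _).1 hne
    obtain ⟨x', hx', hns⟩ := hdense.inter_open_nonempty _ (X.basicOpen b).isOpen ⟨x, hx⟩
    have hxl : x' ∈ X.basicOpen (f.app U.1 l) := by
      rw [← Scheme.preimage_basicOpen]
      exact not_not.1 fun h => hns ((hmem _ (X.basicOpen_le b hx')).2 h)
    have : x' ∈ X.basicOpen (b * f.app U.1 l) := by rw [Scheme.basicOpen_mul]; exact ⟨hx', hxl⟩
    rw [hb, Scheme.basicOpen_zero] at this
    exact this
  refine ⟨hinj, hnzd, ?_⟩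
  letI := (f.app U.1).hom.toAlgebra
  haveI : Module.Finite Γ(Y, U.1) Γ(X, f ⁻¹ᵁ U.1) := IsFinite.finite_app (f := f) U.1 U.2
  haveI := (U.2.preimage f).isLocalization_basicOpen (f.app U.1 l)
  have hone : ∀ b, ∃ m : ℕ, f.app U.1 l ^ m * b ∈ Set.range (f.app U.1) := by
    intro b
    obtain ⟨c, hc⟩ := hbij.2 (X.presheaf.map (homOfLE (f.preimage_mono (Y.basicOpen_le l))).op b)
    obtain ⟨⟨a, ⟨_, m, rfl⟩⟩, ha⟩ := IsLocalization.surj (Submonoid.powers l) c
    have h1 : X.presheaf.map (homOfLE (f.preimage_mono (Y.basicOpen_le l))).op (f.app U.1 l ^ m * b - f.app U.1 a) = 0 := by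
      rw [map_sub, sub_eq_zero, map_mul, map_pow, ← hres, ← hres, ← ha, map_mul, hc, ← map_pow, ← map_pow, mul_comm]
    have h2 : X.presheaf.map (homOfLE (X.basicOpen_le (f.app U.1 l))).op (f.app U.1 l ^ m * b - f.app U.1 a) = 0 := by
      have e : X.basicOpen (f.app U.1 l) ≤ f ⁻¹ᵁ Y.basicOpen l := (Scheme.preimage_basicOpen f l).ge
      have := congrArg (X.presheaf.map (homOfLE e).op) h1
      rw [map_zero, ← ConcreteCategory.comp_apply, ← Functor.map_comp] at this
      exact this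
    obtain ⟨⟨_, k, rfl⟩, hk⟩ :=
      (IsLocalization.map_eq_zero_iff (Submonoid.powers (f.app U.1 l)) Γ(X, X.basicOpen (f.app U.1 l)) _).1 h2
    refine ⟨k + m, l ^ k * a, ?_⟩
    rw [mul_sub, sub_eq_zero] at hk
    rw [map_mul, map_pow, pow_add, mul_assoc]
    exact hk.symm
  choose m hm using hone
  obtain ⟨G, hG⟩ : (⊤ : Submodule Γ(Y, U.1) Γ(X, f ⁻¹ᵁ U.1)).FG := Module.Finite.fg_top
  refine ⟨G.sup m, fun b => ?_⟩
  have hb : b ∈ Submodule.span Γ(Y, U.1) (G : Set Γ(X, f ⁻¹ᵁ U.1)) := hG.symm ▸ Submodule.mem_top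
  induction hb using Submodule.span_induction with
  | mem w hw =>
    obtain ⟨a, ha⟩ := hm w
    refine ⟨l ^ (G.sup m - m w) * a, ?_⟩
    rw [map_mul, map_pow, ha, ← mul_assoc, ← pow_add, Nat.sub_add_cancel (Finset.le_sup hw)]
  | zero => exact ⟨0, by rw [map_zero, mul_zero]⟩
  | add u v _ _ hu hv =>
    obtain ⟨a, ha⟩ := hu; obtain ⟨c, hc⟩ := hv
    exact ⟨a + c, by rw [map_add, ha, hc, mul_add]⟩
  | smul r u _ hu =>
    obtain ⟨a, ha⟩ := hu
    exact ⟨r * a, by rw [map_mul, ha, Algebra.smul_def]; exact mul_left_comm _ _ _⟩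

theorem exists_blowUp [IsNoetherian Y] [IsReduced X] (L : Y.IdealSheafData) (hL : BlowUp.IsEffCartierIdeal L)
    (hiso : IsIso (f ∣_ L.support.compl)) (hdense : Dense (f.base ⁻¹' ((L.support : Set Y)ᶜ))) :
    ∃ I : Y.IdealSheafData, I.support = L.support ∧ BlowUp.IsBlowUp f I := by
  choose U hxU l hl hU using hL
  obtain ⟨t, ht⟩ := isCompact_univ.elim_finite_subcover (fun y => ((U y).1 : Set Y))
    (fun y => (U y).1.isOpen) (fun y _ => Set.mem_iUnion.2 ⟨y, hxU y⟩)
  choose hinj hnzd n hn using fun y : {y // y ∈ t} => chart_facts f L hiso hdense (U y.1) (l y.1) (hl y.1) (hU y.1)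
  let N := t.attach.sup n + 1
  have hN : ∀ (y : {y // y ∈ t}) b, f.app (U y.1).1 (l y.1) ^ N * b ∈ Set.range (f.app (U y.1).1) := fun y b => by
    obtain ⟨a, ha⟩ := hn y (f.app (U y.1).1 (l y.1) ^ (N - n y) * b)
    refine ⟨a, ha.trans ?_⟩
    rw [← mul_assoc, ← pow_add, Nat.add_sub_cancel' (le_trans (Finset.le_sup (t.mem_attach y)) (Nat.le_succ _))]
  let I := ((L ^ N).comap f).map f
  have hJ : ∀ y : {y // y ∈ t}, ((L ^ N).comap f).ideal ⟨_, (U y.1).2.preimage f⟩ =
      Ideal.span {f.app (U y.1).1 (l y.1) ^ N} := fun y => by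
    rw [ModPairLib.ideal_comap (L ^ N) f (U y.1) ⟨_, (U y.1).2.preimage f⟩ le_rfl, Scheme.IdealSheafData.ideal_pow,
      Pi.pow_apply, hU y.1, Ideal.span_singleton_pow, Ideal.map_span, Set.image_singleton, Scheme.Hom.appLE_eq_app,
      map_pow]
  have hI : ∀ y : {y // y ∈ t}, I.ideal (U y.1) =
      (Ideal.span {f.app (U y.1).1 (l y.1) ^ N}).comap (f.app (U y.1).1).hom := fun y => by
    rw [Scheme.IdealSheafData.ideal_map_of_isAffineHom, hJ y]
  have hcov : ∀ x : Y, ∃ y : {y // y ∈ t}, x ∈ (U y.1).1 := fun x => by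
    obtain ⟨y, hy, hxy⟩ := Set.mem_iUnion₂.1 (ht (Set.mem_univ x))
    exact ⟨⟨y, hy⟩, hxy⟩
  refine ⟨I, ?_, ?_⟩
  · refine Closeds.ext (Set.ext fun x => ?_)
    obtain ⟨y, hy⟩ := hcov x
    rw [SetLike.mem_coe, SetLike.mem_coe, I.mem_support_iff_of_mem (U := U y.1) hy,
      L.mem_support_iff_of_mem (U := U y.1) hy, hU y.1, hI y, Scheme.zeroLocus_span,
      Scheme.mem_zeroLocus_iff, Scheme.mem_zeroLocus_iff]
    refine ⟨fun h g hg hx => ?_, fun h a ha hx => ?_⟩
    · rw [Set.mem_singleton_iff] at hg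
      refine h (g ^ N) ?_ (((Y.basicOpen_pow g (Nat.succ_pos _)).ge hx))
      rw [SetLike.mem_coe, Ideal.mem_comap, hg, map_pow]
      exact Ideal.mem_span_singleton_self _
    · rw [SetLike.mem_coe, Ideal.mem_comap, Ideal.mem_span_singleton'] at ha
      obtain ⟨b, hb⟩ := ha
      obtain ⟨a', ha'⟩ := hN y (b * b * 1)
      have h2 : a ^ 2 = l y.1 ^ N * a' := hinj y (by
        rw [map_pow, map_mul, map_pow, ha']
        exact (congrArg (· ^ 2) hb.symm).trans (by ring))
      have : x ∈ Y.basicOpen (a ^ 2) := (Y.basicOpen_pow a two_pos).ge hx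
      rw [h2, Scheme.basicOpen_mul] at this
      exact h (l y.1) rfl ((Y.basicOpen_pow (l y.1) (Nat.succ_pos _)).le this.1)
  · haveI := fun y : {y // y ∈ t} => (U y.1).2.isOpenImmersion_fromSpec
    refine BlowUpLib.isBlowUp_of_local (fun y : {y // y ∈ t} => (U y.1).2.fromSpec)
      (fun x => ?_) (fun y => Spec.map (f.app (U y.1).1)) (fun y => ((U y.1).2.preimage f).fromSpec) (fun y => ?_) (fun y => ?_)
    · obtain ⟨y, hy⟩ := hcov x
      obtain ⟨v, hv⟩ := (U y.1).2.range_fromSpec.ge hy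
      exact ⟨y, v, hv⟩
    · refine IsOpenImmersion.isPullback _ _ _ _ ?_ ?_
      · rw [← IsAffineOpen.SpecMap_appLE_fromSpec f (U y.1).2 ((U y.1).2.preimage f) le_rfl, Scheme.Hom.appLE_eq_app]
      · rw [IsAffineOpen.opensRange_fromSpec, IsAffineOpen.opensRange_fromSpec]
    · rw [BlowUpLib.comap_fromSpec]
      letI := (f.app (U y.1).1).hom.toAlgebra
      have hmap : Ideal.map (f.app (U y.1).1).hom (I.ideal (U y.1)) = Ideal.span {f.app (U y.1).1 (l y.1) ^ N} := by
        refine le_antisymm (Ideal.map_le_iff_le_comap.2 (hI y).le) ((Ideal.span_singleton_le_iff_mem _).2 ?_)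
        rw [← map_pow]
        refine Ideal.mem_map_of_mem _ ?_
        rw [hI y, Ideal.mem_comap, map_pow]
        exact Ideal.mem_span_singleton_self _
      refine MeroX.isBlowUp_Spec Γ(Y, (U y.1).1) Γ(X, f ⁻¹ᵁ (U y.1).1) (hinj y) (I.ideal (U y.1)) ?_
        _ (pow_mem (hnzd y) N) hmap
      intro b hb
      have hb' : b ∈ Ideal.span {f.app (U y.1).1 (l y.1) ^ N} := hmap ▸ hb
      obtain ⟨c, hc⟩ := Ideal.mem_span_singleton'.1 hb'
      obtain ⟨a, ha⟩ := hN y c
      have hab : f.app (U y.1).1 a = b := ha.trans ((mul_comm _ _).trans hc)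
      refine ⟨a, ?_, hab⟩
      rw [SetLike.mem_coe, hI y, Ideal.mem_comap, hab]
      exact hb'

end Groth.Agent.BlowFin16
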